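/-
Bilinear maps out of abelian schemes vanish.
-/
import Groth.Agent.L26.AV.NonNoethHom
import Groth.Agent.L26.AV.SmoothField
import Groth.Agent.L25.Component

set_option autoImplicit false
set_option linter.style.haveILetI false
set_option backward.isDefEq.respectTransparency.types false

open CategoryTheory CategoryTheory.Limits MonoidalCategory CartesianMonoidalCategory MonObj
  AlgebraicGeometry

universe u

namespace Groth.Agent.AbSchHom

/-- A smooth group scheme with connected fibres has geometrically connected fibres. -/
theorem geometricallyConnected_of_fibres {S : Scheme.{u}} (A : Over S) [GrpObj A] [Smooth A.hom]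
    (hA : ∀ s : S, ConnectedSpace ↥(A.hom.fiber s)) : GeometricallyConnected A.hom := by
  rw [GeometricallyConnected.iff_geometricallyConnected_fiber]
  intro s
  let A' : Over (Spec (CommRingCat.of (S.residueField s))) := Red.bc (S.fromSpecResidueField s) A
  letI : GrpObj A' := inferInstanceAs (GrpObj (Red.bc (S.fromSpecResidueField s) A))
  haveI : ConnectedSpace A'.left := hA s
  haveI : Smooth A'.hom := MorphismProperty.pullback_snd A.hom (S.fromSpecResidueField s) ‹_›
  haveI : IsLocallyNoetherian A'.left := LocallyOfFiniteType.isLocallyNoetherian A'.hom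
  haveI : IrreducibleSpace A'.left := Groth.L25.Component.irreducibleSpace A'
  haveI : GeometricallyIrreducible A'.hom := Groth.L25.Component.geometricallyIrreducible A'
  exact inferInstanceAs (GeometricallyConnected A'.hom)

variable {S : Scheme.{u}} (A B C : Over S) [GrpObj A] [GrpObj B] [GrpObj C] [Smooth A.hom] [IsProper A.hom]
  [GeometricallyConnected B.hom] [IsSeparated C.hom]

/-- A map out of `A × B` trivial on both axes is trivial. -/
theorem eq_one_of_axes (hA : ∀ s : S, ConnectedSpace ↥(A.hom.fiber s)) (Φ : A ⊗ B ⟶ C)
    (h1 : lift (𝟙 A) (toUnit A ≫ η[B]) ≫ Φ = 1) (h2 : lift (toUnit B ≫ η[A]) (𝟙 B) ≫ Φ = 1) :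
    Φ = 1 := by
  haveI := geometricallyConnected_of_fibres A hA
  haveI : GeometricallyReduced A.hom := Groth.Agent.AV.geometricallyReduced_of_smooth A.hom
  rw [Groth.Agent.AV.eq_snd_comp_of_fst_trivial A B C η[B] Φ h1, h2, MonObj.comp_one]

end Groth.Agent.AbSchHom
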