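/-
Automorphisms of biextensions as pairings on the universal section.
-/
import Groth.Prelude.Def_Biext
import Mathlib.CategoryTheory.Sites.SheafOfTypes

set_option autoImplicit false
set_option linter.style.haveILetI false
set_option backward.isDefEq.respectTransparency.types false

open CategoryTheory CategoryTheory.Limits Opposite

universe u

namespace Groth.Agent.BiextRigid

variable {C : Type (u + 1)} [Category.{u} C] {J : GrothendieckTopology C}
  {P Q G : Sheaf J AddCommGrpCat.{u + 1}} {B : Biext J P Q G} (f : Biext.Hom J B B)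

/-- The translation by which an automorphism moves a section. -/
noncomputable def dev {T : C} (x : B.E.obj.obj (op T)) : G.obj.obj (op T) :=
  (B.existsUnique_act T x (f.map T x) ((f.πP_map T x).symm) ((f.πQ_map T x).symm)).choose

theorem act_dev {T : C} (x : B.E.obj.obj (op T)) : B.act T (dev f x) x = f.map T x :=
  (B.existsUnique_act T x (f.map T x) ((f.πP_map T x).symm) ((f.πQ_map T x).symm)).choose_spec.1

theorem dev_eq {T : C} (x : B.E.obj.obj (op T)) (g : G.obj.obj (op T)) (h : B.act T g x = f.map T x) :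
    g = dev f x :=
  (B.existsUnique_act T x (f.map T x) ((f.πP_map T x).symm) ((f.πQ_map T x).symm)).choose_spec.2 g h

theorem dev_map {T T' : C} (r : T' ⟶ T) (x : B.E.obj.obj (op T)) :
    G.obj.map r.op (dev f x) = dev f (B.E.obj.map r.op x) := by
  refine dev_eq f _ _ ?_
  rw [← B.act_map, act_dev, f.map_res]

theorem dev_congr {T : C} (x y : B.E.obj.obj (op T)) (hP : B.πP T x = B.πP T y) (hQ : B.πQ T x = B.πQ T y) :
    dev f x = dev f y := by
  obtain ⟨g, rfl, -⟩ := B.existsUnique_act T x y hP hQ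
  refine dev_eq f _ _ ?_
  have h := f.map_act T g x
  rw [← act_dev f x] at h
  refine Eq.trans ?_ h.symm
  show _ = B.act T g _
  rw [← B.add_act, ← B.add_act, add_comm]

theorem dev_add₁ {T : C} (x z : B.E.obj.obj (op T)) (h : B.πQ T x = B.πQ T z) :
    dev f (B.add₁ T x z h) = dev f x + dev f z := by
  refine (dev_eq f _ _ ?_).symm
  rw [f.map_add₁, B.add_act]
  simp only [← act_dev f]
  rw [B.add₁_act T (dev f x) x (B.act T (dev f z) z) (h.trans (B.πQ_act T _ z).symm),
    B.add₁_comm T x (B.act T (dev f z) z) (h.trans (B.πQ_act T _ z).symm),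
    B.add₁_act T (dev f z) z x h.symm, B.add₁_comm T z x h.symm]

theorem dev_add₂ {T : C} (x z : B.E.obj.obj (op T)) (h : B.πP T x = B.πP T z) :
    dev f (B.add₂ T x z h) = dev f x + dev f z := by
  refine (dev_eq f _ _ ?_).symm
  rw [f.map_add₂, B.add_act]
  simp only [← act_dev f]
  rw [B.add₂_act T (dev f x) x (B.act T (dev f z) z) (h.trans (B.πP_act T _ z).symm),
    B.add₂_comm T x (B.act T (dev f z) z) (h.trans (B.πP_act T _ z).symm),
    B.add₂_act T (dev f z) z x h.symm, B.add₂_comm T z x h.symm]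

theorem dev_eq_zero_of_left {T : C} (x : B.E.obj.obj (op T)) (h : B.πP T x = 0) : dev f x = 0 := by
  have h2 := dev_congr f (B.add₁ T x x rfl) x (by rw [B.πP_add₁, h, add_zero]) (B.πQ_add₁ T x x rfl)
  rw [dev_add₁] at h2
  exact add_eq_left.1 h2

theorem dev_eq_zero_of_right {T : C} (x : B.E.obj.obj (op T)) (h : B.πQ T x = 0) : dev f x = 0 := by
  have h2 := dev_congr f (B.add₂ T x x rfl) x (B.πP_add₂ T x x rfl) (by rw [B.πQ_add₂, h, add_zero])
  rw [dev_add₂] at h2
  exact add_eq_left.1 h2

theorem isSheafFor (G : Sheaf J AddCommGrpCat.{u + 1}) {T : C} {R : Sieve T} (hR : R ∈ J T) :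
    Presieve.IsSheafFor (G.obj ⋙ forget AddCommGrpCat.{u + 1}) R.arrows :=
  (isSheaf_iff_isSheaf_of_type J (Biext.uSh J G).obj).1 (Biext.uSh J G).property R hR

theorem eq_of_locally {T : C} {R : Sieve T} (hR : R ∈ J T) (a b : G.obj.obj (op T))
    (h : ∀ ⦃T' : C⦄ (r : T' ⟶ T), R r → G.obj.map r.op a = G.obj.map r.op b) : a = b :=
  (isSheafFor G hR).isSeparatedFor.ext fun T' r hr => h r hr

/-- The pairing of an automorphism at a pair of sections. -/
theorem exists_pairing {T : C} (p : P.obj.obj (op T)) (q : Q.obj.obj (op T)) :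
    ∃ b : G.obj.obj (op T), ∀ ⦃T' : C⦄ (r : T' ⟶ T) (x : B.E.obj.obj (op T')),
      B.πP T' x = P.obj.map r.op p → B.πQ T' x = Q.obj.map r.op q → G.obj.map r.op b = dev f x := by
  obtain ⟨R, hR, hx⟩ := B.locallySurjective T p q
  choose x hxp hxq using hx
  let fam : Presieve.FamilyOfElements (G.obj ⋙ forget AddCommGrpCat.{u + 1}) R.arrows :=
    fun T' r hr => dev f (x r hr)
  have hfam : fam.Compatible := by
    intro Y₁ Y₂ Z g₁ g₂ r₁ r₂ h₁ h₂ hw
    show G.obj.map g₁.op (dev f (x r₁ h₁)) = G.obj.map g₂.op (dev f (x r₂ h₂))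
    rw [dev_map, dev_map]
    refine dev_congr f _ _ ?_ ?_
    · rw [B.πP_map, B.πP_map, hxp, hxp, ← ConcreteCategory.comp_apply, ← ConcreteCategory.comp_apply,
        ← Functor.map_comp, ← Functor.map_comp, ← op_comp, ← op_comp, hw]
    · rw [B.πQ_map, B.πQ_map, hxq, hxq, ← ConcreteCategory.comp_apply, ← ConcreteCategory.comp_apply,
        ← Functor.map_comp, ← Functor.map_comp, ← op_comp, ← op_comp, hw]
  refine ⟨(isSheafFor G hR).amalgamate fam hfam, fun T' r y hyp hyq => ?_⟩
  refine eq_of_locally (J.pullback_stable r hR) _ _ fun Z s hs => ?_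
  rw [dev_map, ← ConcreteCategory.comp_apply, ← Functor.map_comp, ← op_comp]
  refine ((isSheafFor G hR).valid_glue hfam (s ≫ r) hs).trans (dev_congr f _ _ ?_ ?_)
  · rw [B.πP_map, hyp, hxp, ← ConcreteCategory.comp_apply, ← Functor.map_comp, ← op_comp]
  · rw [B.πQ_map, hyq, hxq, ← ConcreteCategory.comp_apply, ← Functor.map_comp, ← op_comp]

end Groth.Agent.BiextRigid
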