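/-
Differentials of abelian schemes are pulled back from the base.
-/
import Groth.Agent.S1937
import Groth.Agent.S7795
import Groth.Agent.L20.DescLocus.AppIso
import Groth.Agent.L20.DescLocus.UnitLocFree
import Groth.Agent.L20.DescLocus.Mate
import Groth.Agent.L14.DefLift.LocTriv.SmoothRigid
import Groth.Agent.L07.DiffOpSheaf

set_option autoImplicit false
set_option linter.style.haveILetI false
set_option backward.isDefEq.respectTransparency false
set_option backward.isDefEq.respectTransparency.types false

universe u

open CategoryTheory MonoidalCategory CartesianMonoidalCategory MonObj AlgebraicGeometry Opposite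
  Scheme.Modules

noncomputable section

namespace Groth.Agent.AbSchDiff

variable {S X : Scheme.{u}} (e : S ⟶ X) (π : X ⟶ S) (he : e ≫ π = 𝟙 S)

include he in
/-- Pullback along a retraction followed by pullback along the section is the identity. -/
theorem nonempty_pullback_pullback (C : S.Modules) :
    Nonempty ((pullback e).obj ((pullback π).obj C) ≅ C) :=
  ⟨(pullbackComp e π).app C ≪≫ (pullbackCongr he).app C ≪≫ (pullbackId S).app C⟩

include he in
/-- If `C → π_*π^*C` is an isomorphism, sections of `π^*C` are sections of its restriction along a section. -/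
theorem bijective_unit_section (C : S.Modules) [IsIso ((pullbackPushforwardAdjunction π).unit.app C)] :
    Function.Bijective (((pullbackPushforwardAdjunction e).unit.app ((pullback π).obj C)).val.app (op ⊤)).hom := by
  haveI : IsIso (e ≫ π) := by rw [he]; infer_instance
  haveI : IsIso ((pullbackPushforwardAdjunction (e ≫ π)).unit.app C) := Groth.L07.DiffOpSheaf.isIso_unit_of_isIso _ C
  haveI : IsIso ((pushforward π).map ((pullbackPushforwardAdjunction e).unit.app ((pullback π).obj C))) := by
    have h := Groth.L20.DescLocus.unit_comp e π C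
    haveI : IsIso ((pullbackPushforwardAdjunction π).unit.app C ≫
        (pushforward π).map ((pullbackPushforwardAdjunction e).unit.app ((pullback π).obj C)) ≫
          (pushforwardComp e π).hom.app _) := by
      rw [h]; infer_instance
    haveI := IsIso.of_isIso_comp_left ((pullbackPushforwardAdjunction π).unit.app C)
      ((pushforward π).map ((pullbackPushforwardAdjunction e).unit.app ((pullback π).obj C)) ≫
        (pushforwardComp e π).hom.app _)
    exact IsIso.of_isIso_comp_right _ ((pushforwardComp e π).hom.app _)
  have h := (Scheme.Modules.Hom.isIso_iff_isIso_app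
    (φ := (pushforward π).map ((pullbackPushforwardAdjunction e).unit.app ((pullback π).obj C)))).1 inferInstance ⊤
  exact ConcreteCategory.bijective_of_isIso
    (((pushforward π).map ((pullbackPushforwardAdjunction e).unit.app ((pullback π).obj C))).app ⊤)

section AbSch

variable {S : Scheme.{u}} (A : Over S) [GrpObj A] [IsProper A.hom] [Flat A.hom] [LocallyOfFinitePresentation A.hom]
  [GeometricallyReduced A.hom] [GeometricallyConnected A.hom]

/-- `Ω_{A/S} ≅ π^*ω` with `ω` finite locally free, the restriction along the unit section, equal to its sections. -/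
theorem exists_data : ∃ C : S.Modules, FlatMod.IsFinLocFree C ∧
    Nonempty (Omega.sheaf A.hom ≅ (pullback A.hom).obj C) ∧
    Nonempty ((pullback η[A].left).obj (Omega.sheaf A.hom) ≅ C) ∧
    IsIso ((pullbackPushforwardAdjunction A.hom).unit.app C) := by
  haveI : Smooth A.hom := Groth.Agent.S7795.result A
  obtain ⟨ψ⟩ := (Groth.Agent.S1937.result S A).1
  obtain ⟨ε⟩ := nonempty_pullback_pullback η[A].left A.hom (Over.w η[A]) (Omega.conormal η[A].left)
  have hΩ := Groth.L14.LocTriv.isFinLocFree_omega' A.hom
  have hC : FlatMod.IsFinLocFree (Omega.conormal η[A].left) := by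
    intro x
    obtain ⟨U, n, hx, ⟨b⟩⟩ := Groth.L20.DescLocus.isFinLocFree_pullback η[A].left hΩ x
    exact ⟨U, n, hx, ⟨(restrictFunctor U.ι).mapIso (((pullback η[A].left).mapIso ψ ≪≫ ε).symm) ≪≫ b⟩⟩
  exact ⟨_, hC, ⟨ψ⟩, ⟨(pullback η[A].left).mapIso ψ ≪≫ ε⟩,
    Groth.L20.DescLocus.isIso_unit_of_isFinLocFree A.hom (Groth.L20.DescLocus.isIso_app A.hom) hC⟩

end AbSch

end Groth.Agent.AbSchDiff
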