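/-
Sections of homomorphism sheaves seen as pairings.
-/
import Groth.Prelude.Def_CGrpSh2
import Mathlib.CategoryTheory.Monoidal.Cartesian.Over

set_option autoImplicit false
set_option linter.style.haveILetI false
set_option backward.isDefEq.respectTransparency.types false

open CategoryTheory CategoryTheory.Limits Opposite MonoidalCategory CartesianMonoidalCategory AlgebraicGeometry

universe u

namespace Groth.Agent.HomPair

variable {S : Scheme.{u}} {A B : Over S} [GrpObj A] [IsCommMonObj A] [GrpObj B] [IsCommMonObj B]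
  {M : BigSite.Ab Scheme.fppfPrecoverage S}
  (φ : CGrpSh.pts Scheme.fppfPrecoverage A ⟶
    HomSh.homSh (QuotSh.J Scheme.fppfPrecoverage S) (CGrpSh.pts Scheme.fppfPrecoverage B) M)

/-- The universal value of a map to a homomorphism sheaf. -/
noncomputable def pairing : M.obj.obj (op (A ⊗ B)) :=
  HomSh.ev (QuotSh.J Scheme.fppfPrecoverage S)
    (show (CGrpSh.pts Scheme.fppfPrecoverage B).over (A ⊗ B) ⟶ M.over (A ⊗ B) from
      φ.hom.app (op (A ⊗ B)) (ULift.up (Additive.ofMul (fst A B))))
    (ULift.up (Additive.ofMul (snd A B)))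

theorem app_mk_id {T U : Over S} (g : U ⟶ T) (a : T ⟶ A) (b : U ⟶ B) :
    (show (CGrpSh.pts Scheme.fppfPrecoverage B).over T ⟶ M.over T from
      φ.hom.app (op T) (ULift.up (Additive.ofMul a))).hom.app (op (Over.mk g)) (ULift.up (Additive.ofMul b)) =
      HomSh.ev (QuotSh.J Scheme.fppfPrecoverage S)
        (show (CGrpSh.pts Scheme.fppfPrecoverage B).over U ⟶ M.over U from
          φ.hom.app (op U) (ULift.up (Additive.ofMul (g ≫ a)))) (ULift.up (Additive.ofMul b)) := by
  have h := ConcreteCategory.congr_hom (φ.hom.naturality g.op) (ULift.up (Additive.ofMul a))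
  have h' : φ.hom.app (op U) (ULift.up (Additive.ofMul (g ≫ a))) =
      ((QuotSh.J Scheme.fppfPrecoverage S).overMapPullback AddCommGrpCat.{u + 1} g).map
        (show (CGrpSh.pts Scheme.fppfPrecoverage B).over T ⟶ M.over T from
          φ.hom.app (op T) (ULift.up (Additive.ofMul a))) := h
  rw [h', HomSh.ev_apply]
  exact HomSh.app_over_mk_congr _ _ (Category.id_comp g).symm _

/-- The values of a map to a homomorphism sheaf are pullbacks of the universal one. -/
theorem app_eq {T U : Over S} (g : U ⟶ T) (a : T ⟶ A) (b : U ⟶ B) :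
    (show (CGrpSh.pts Scheme.fppfPrecoverage B).over T ⟶ M.over T from
      φ.hom.app (op T) (ULift.up (Additive.ofMul a))).hom.app (op (Over.mk g)) (ULift.up (Additive.ofMul b)) =
      M.obj.map (lift (g ≫ a) b).op (pairing φ) := by
  rw [app_mk_id φ g a b]
  let ℓ : U ⟶ A ⊗ B := lift (g ≫ a) b
  have e := app_mk_id φ ℓ (fst A B) b
  rw [show ℓ ≫ fst A B = g ≫ a from lift_fst _ _] at e
  rw [← e]
  let Φ : (CGrpSh.pts Scheme.fppfPrecoverage B).over (A ⊗ B) ⟶ M.over (A ⊗ B) :=
    φ.hom.app (op (A ⊗ B)) (ULift.up (Additive.ofMul (fst A B)))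
  have hn := ConcreteCategory.congr_hom
    (Φ.hom.naturality (Over.homMk ℓ (Category.comp_id ℓ) : Over.mk ℓ ⟶ Over.mk (𝟙 (A ⊗ B))).op)
    (ULift.up (Additive.ofMul (snd A B)))
  refine Eq.trans ?_ hn
  refine congrArg (Φ.hom.app (op (Over.mk ℓ))) ?_
  apply ULift.ext
  show Additive.ofMul b = Additive.ofMul (ℓ ≫ snd A B)
  rw [lift_snd]

/-- A map to a homomorphism sheaf is determined by its universal value. -/
theorem eq_zero (h : pairing φ = 0) : φ = 0 := by
  refine Sheaf.hom_ext (NatTrans.ext (funext fun T => AddCommGrpCat.ext fun a => ?_))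
  refine Sheaf.hom_ext (NatTrans.ext (funext fun U => AddCommGrpCat.ext fun b => ?_))
  have := app_eq φ (unop U).hom a.down.toMul b.down.toMul
  rw [h, map_zero] at this
  exact this

end Groth.Agent.HomPair
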