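import Groth.Agent.L26.KL.Finite
import Groth.Agent.L26.AbDual.Bilinear
import Groth.Agent.L26.AV.InterPic
import Groth.Agent.L08.Cube.RelCubical
import Groth.Agent.S1490

/-!
# The homomorphism attached to a module is rigid
-/

set_option autoImplicit false
set_option linter.style.haveILetI false
set_option linter.unusedSectionVars false
set_option backward.isDefEq.respectTransparency false

universe u

open CategoryTheory CategoryTheory.Limits MonoidalCategory CartesianMonoidalCategory AlgebraicGeometry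
open scoped MonObj

noncomputable section

namespace Groth.Agent.LambdaRigid

open Groth.Agent.AbDualLib Groth.Agent.AV.InterPic
open Groth.Agent.KLFinite (down down_mul)

attribute [local instance] Groth.L08.Cube.clMonoid picLaw

variable {S : Scheme.{u}}

/-- A class trivial on both axes and on one fibre is trivial. -/
theorem cube {A : Over S} [GrpObj A] [Flat A.hom] [IsProper A.hom] [LocallyOfFinitePresentation A.hom]
    [GeometricallyIntegral A.hom] [ConnectedSpace S] (d : PicLoc.PicSet (A ⊗ A).left)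
    (h1 : ∀ {W : Over S} (q : W ⟶ A), pullPic (lift 1 q).left d = 1)
    (h2 : ∀ {W : Over S} (p : W ⟶ A), pullPic (lift p 1).left d = 1) (s : S)
    (h3 : ∀ {Z : Scheme.{u}} (ψ : Z ⟶ (A ⊗ A).left) (g : Z ⟶ Spec (S.residueField s)),
      ψ ≫ (A ⊗ A).hom = g ≫ S.fromSpecResidueField s → pullPic ψ d = 1) : d = 1 := by
  obtain ⟨L, hL, hLi⟩ := d.2
  let f := pullback.fst A.hom A.hom ≫ A.hom
  let pr : pullback f (𝟙 S) ⟶ (A ⊗ A).left := pullback.fst f (𝟙 S)
  have hη : ∀ {W : Over S}, (1 : W ⟶ A).left = W.hom ≫ η[A].left := fun {W} => by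
    rw [Hom.one_def, Over.comp_left, Over.toUnit_left]
  obtain ⟨θ⟩ := Groth.Agent.S1490.result A.hom A.hom (𝟙 S) η[A].left (Over.w η[A]) η[A].left (Over.w η[A])
    ((Scheme.Modules.pullback pr).obj L) (Groth.L18.Ample.isInvertible_pullback _ hLi)
    ((PicGrp.cl_eq_cl_iff _ _).1 (by
      show PicF.pullCl _ (PicF.pullCl pr (PicF.cl L)) = 1
      rw [← PicLoc.pullCl_comp, hL]
      let W : Over S := Over.mk (pullback.snd _ (𝟙 S) : pullback (pullback.lift (A.hom ≫ η[A].left) (𝟙 A.left)
        (by simp [Over.w η[A]]) ≫ f) (𝟙 S) ⟶ S)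
      let q : W ⟶ A := Over.homMk (pullback.fst _ _) (by
        show pullback.fst _ _ ≫ A.hom = pullback.snd _ _
        refine Eq.trans ?_ (pullback.condition.trans (Category.comp_id _))
        refine congrArg (pullback.fst _ _ ≫ ·) ?_
        simp [f, pullback.lift_fst_assoc, Over.w η[A]])
      refine Eq.trans (congrArg (fun z => PicF.pullCl z d.1) (?_ : _ = (lift 1 q).left)) (congrArg Subtype.val (h1 q))
      apply pullback.hom_ext
      · show _ = (lift 1 q ≫ fst A A).left
        rw [lift_fst, hη]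
        simp only [pr, pullback.map, Category.assoc]
        erw [pullback.lift_fst_assoc, Category.assoc, pullback.lift_fst]
        rw [← Category.assoc]
        exact congrArg (· ≫ η[A].left) (Over.w q)
      · show _ = (lift 1 q ≫ snd A A).left
        rw [lift_snd]
        simp only [pr, pullback.map, Category.assoc]
        erw [pullback.lift_fst_assoc, Category.assoc, pullback.lift_snd]
        exact Category.comp_id _))
    ((PicGrp.cl_eq_cl_iff _ _).1 (by
      show PicF.pullCl _ (PicF.pullCl pr (PicF.cl L)) = 1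
      rw [← PicLoc.pullCl_comp, hL]
      let W : Over S := Over.mk (pullback.snd _ (𝟙 S) : pullback (pullback.lift (𝟙 A.left) (A.hom ≫ η[A].left)
        (by simp [Over.w η[A]]) ≫ f) (𝟙 S) ⟶ S)
      let p : W ⟶ A := Over.homMk (pullback.fst _ _) (by
        show pullback.fst _ _ ≫ A.hom = pullback.snd _ _
        refine Eq.trans ?_ (pullback.condition.trans (Category.comp_id _))
        refine congrArg (pullback.fst _ _ ≫ ·) ?_
        simp [f, pullback.lift_fst_assoc]
        exact (Category.id_comp _).symm)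
      refine Eq.trans (congrArg (fun z => PicF.pullCl z d.1) (?_ : _ = (lift p 1).left)) (congrArg Subtype.val (h2 p))
      apply pullback.hom_ext
      · show _ = (lift p 1 ≫ fst A A).left
        rw [lift_fst]
        simp only [pr, pullback.map, Category.assoc]
        erw [pullback.lift_fst_assoc, Category.assoc, pullback.lift_fst]
        exact Category.comp_id _
      · show _ = (lift p 1 ≫ snd A A).left
        rw [lift_snd, hη]
        simp only [pr, pullback.map, Category.assoc]
        erw [pullback.lift_fst_assoc, Category.assoc, pullback.lift_snd]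
        rw [← Category.assoc]
        exact congrArg (· ≫ η[A].left) (Over.w p)))
    ⟨s, (PicGrp.cl_eq_cl_iff _ _).1 (by
      show PicF.pullCl _ (PicF.pullCl pr (PicF.cl L)) = 1
      rw [← PicLoc.pullCl_comp, hL]
      refine congrArg Subtype.val (h3 _ ((pullback.snd f (𝟙 S)).fiberToSpecResidueField s) ?_)
      show ((pullback.snd f (𝟙 S)).fiberι s ≫ pullback.fst f (𝟙 S)) ≫ f = _
      rw [Category.assoc, pullback.condition, Category.comp_id]
      exact pullback.condition)⟩
  refine Subtype.ext ?_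
  have h := congrArg (PicF.pullCl (pullback.lift (𝟙 _) f (by simp) : (A ⊗ A).left ⟶ pullback f (𝟙 S)))
    ((PicGrp.cl_eq_cl_iff _ _).2 ⟨θ⟩)
  change PicF.pullCl _ (PicF.pullCl pr (PicF.cl L)) = PicF.pullCl _ 1 at h
  rw [← PicLoc.pullCl_comp, pullback.lift_fst, PicLoc.pullCl_id, hL, Groth.L08.Cube.pullCl_one] at h
  exact h

variable {A At : Over S} [GrpObj A] [IsCommMonObj A] [GrpObj At]
  (L : A.left.Modules) (hL : PicF.IsInvertible L) (N : (A ⊗ A).left.Modules) (hN : PicF.IsInvertible N)

/-- The value of `L`. -/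
def l {W : Over S} (p : W ⟶ A) : PicLoc.PicSet W.left := pullPic p.left (PicGrp.cls L hL)

/-- The value of `N`. -/
def n {W : Over S} (p q : W ⟶ A) : PicLoc.PicSet W.left := pullPic (lift p q).left (PicGrp.cls N hN)

theorem l_comp {W W' : Over S} (h : W' ⟶ W) (p : W ⟶ A) : pullPic h.left (l L hL p) = l L hL (h ≫ p) :=
  Subtype.ext (show PicF.pullCl h.left (PicF.pullCl p.left (PicF.cl L)) = PicF.pullCl (h.left ≫ p.left) (PicF.cl L)
    from (PicLoc.pullCl_comp h.left p.left _).symm)

theorem n_comp {W W' : Over S} (h : W' ⟶ W) (p q : W ⟶ A) :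
    pullPic h.left (n N hN p q) = n N hN (h ≫ p) (h ≫ q) := by
  refine Subtype.ext ?_
  show PicF.pullCl h.left (PicF.pullCl (lift p q).left (PicF.cl N)) =
    PicF.pullCl (lift (h ≫ p) (h ≫ q)).left (PicF.cl N)
  rw [← PicLoc.pullCl_comp, ← Over.comp_left, comp_lift]

/-- The unit point pulls classes back through the base. -/
theorem l_one_eq {W : Over S} {Z : Scheme.{u}} [Subsingleton Z] (g : W.left ⟶ Z) (t : Z ⟶ S) (h : g ≫ t = W.hom) :
    l L hL (1 : W ⟶ A) = 1 := by
  refine Subtype.ext ?_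
  show PicF.pullCl (1 : W ⟶ A).left (PicF.cl L) = 1
  rw [Hom.one_def, Over.comp_left, Over.toUnit_left]
  change PicF.pullCl (W.hom ≫ η[A].left) (PicF.cl L) = 1
  rw [← h, Category.assoc, PicLoc.pullCl_comp]
  rw [show PicF.pullCl (t ≫ η[A].left) (PicF.cl L) = 1 from
    eq_oneCl_of_subsingleton (PicLoc.isInvertibleCl_pullCl _ ⟨L, rfl, hL⟩), Groth.L08.Cube.pullCl_one]

variable (hsh : AgPol.IsLambdaSheaf (μ[A].left : PicF.XT A.hom A ⟶ A.left) (fst A A).left (snd A A).left L N)

include hsh in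
theorem n_eq {W : Over S} (p q : W ⟶ A) : n N hN p q * l L hL p * l L hL q = l L hL (p * q) := by
  obtain ⟨ψ⟩ := hsh
  have h : PicGrp.cls N hN * pullPic (fst A A).left (PicGrp.cls L hL) * pullPic (snd A A).left (PicGrp.cls L hL) =
      pullPic μ[A].left (PicGrp.cls L hL) := Subtype.ext ((PicGrp.cl_eq_cl_iff _ _).2 ⟨ψ⟩)
  have h' := congrArg (pullPic (lift p q).left) h
  rw [map_mul, map_mul] at h'
  change n N hN p q * pullPic (lift p q).left (l L hL (fst A A)) * pullPic (lift p q).left (l L hL (snd A A)) =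
    pullPic (lift p q).left (l L hL μ[A]) at h'
  rwa [l_comp, l_comp, l_comp, lift_fst, lift_snd, ← Hom.mul_def] at h'

include hsh in
theorem n_one_right {W : Over S} (p : W ⟶ A) : n N hN p 1 = (l L hL (1 : W ⟶ A))⁻¹ := by
  have h := n_eq L hL N hN hsh p 1
  rw [_root_.mul_one, mul_right_comm, mul_eq_right] at h
  exact eq_inv_of_mul_eq_one_left h

include hsh in
theorem n_one_left {W : Over S} (q : W ⟶ A) : n N hN 1 q = (l L hL (1 : W ⟶ A))⁻¹ := by
  have h := n_eq L hL N hN hsh 1 q
  rw [_root_.one_mul, mul_eq_right] at h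
  exact eq_inv_of_mul_eq_one_left h

theorem XTmap_eq_n {T : Over S} (j : T ⟶ A) :
    PicF.pullCl (PicF.XTmap A.hom j) (PicF.cl N) = (n N hN (fst A T) (snd A T ≫ j)).1 := by
  show _ = PicF.pullCl (lift (fst A T) (snd A T ≫ j)).left (PicF.cl N)
  rw [XTmap_eq_whiskerLeft]
  refine congrArg (fun h : A ⊗ T ⟶ A ⊗ A => PicF.pullCl h.left (PicF.cl N)) ?_
  apply CartesianMonoidalCategory.hom_ext <;> simp

theorem down_one {R : Scheme.{u}} (q : R ⟶ S) (U : Over R) : down q (1 : U ⟶ Red.bc q A) = 1 := by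
  have h := down_mul q (1 : U ⟶ Red.bc q A) 1
  rw [_root_.one_mul] at h
  exact mul_left_cancel ((_root_.mul_one _).trans h).symm

variable [IsProper A.hom] [Smooth A.hom] [GeometricallyConnected A.hom]

include hsh hN hL in
/-- The Mumford class is algebraically trivial on every fibre. -/
theorem isPicZeroCl : AbDual.IsPicZeroCl A.hom A (PicF.cl N) := by
  refine ⟨N, rfl, hN, fun t Ω _ _ τ hτ => ?_⟩
  let t₀ := τ ≫ A.hom
  let X := Red.bc t₀ A
  haveI : LocallyOfFiniteType X.hom := inferInstanceAs (LocallyOfFiniteType (pullback.snd A.hom t₀))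
  haveI : QuasiCompact X.hom := inferInstanceAs (QuasiCompact (pullback.snd A.hom t₀))
  haveI : GeometricallyConnected X.hom := inferInstanceAs (GeometricallyConnected (pullback.snd A.hom t₀))
  haveI : Subsingleton ↥(Spec (CommRingCat.of Ω)) := inferInstanceAs (Subsingleton (PrimeSpectrum Ω))
  haveI : ConnectedSpace ↥X.left := GeometricallyConnected.connectedSpace_of_subsingleton X.hom
  let U : Over S := overPt t₀ X.hom
  let j : U ⟶ A := down t₀ (𝟙 X)
  have hU : AbDual.IsPicZeroCl A.hom U (PicF.pullCl (PicF.XTmap A.hom j) (PicF.cl N)) := by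
    refine isPicZeroCl_of_family A.hom t₀ X.hom _ (PicLoc.isInvertibleCl_pullCl _ ⟨N, rfl, hN⟩) η[X].left
      (Over.w η[X]) ?_
    have e : ptHom t₀ X.hom η[X].left (Over.w η[X]) ≫ j = 1 := by
      refine Over.OverMorphism.ext ?_
      have h := congrArg (fun f => f.left) (down_one (A := A) t₀ (𝟙_ (Over (Spec (CommRingCat.of Ω)))))
      show η[X].left ≫ 𝟙 X.left ≫ pullback.fst A.hom t₀ = _
      rw [Category.id_comp, show (η[X] : 𝟙_ _ ⟶ X) = 1 by
        rw [Hom.one_def, toUnit_unique (toUnit _) (𝟙 _), Category.id_comp]]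
      refine h.trans ?_
      rw [Hom.one_def, Over.comp_left, Over.toUnit_left]
    rw [← PicLoc.pullCl_comp, ← XTmap_comp, e, XTmap_eq_n N hN, MonObj.comp_one, n_one_right L hL N hN hsh,
      l_one_eq L hL (W := A ⊗ Over.mk t₀) (Z := Spec (CommRingCat.of Ω)) (snd A (Over.mk t₀)).left t₀
        (Over.w (snd A (Over.mk t₀))), inv_one]
    rfl
  let b : AbDual.ovr A τ ⟶ U := Over.homMk (pullback.lift τ (𝟙 _) (Category.id_comp _).symm) (by
    show pullback.lift τ (𝟙 _) _ ≫ pullback.snd A.hom t₀ ≫ t₀ = _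
    rw [pullback.lift_snd_assoc, Category.id_comp]
    rfl)
  have hb : AbDual.ovrHom A τ = b ≫ j := by
    ext1
    show τ = _ ≫ 𝟙 X.left ≫ pullback.fst A.hom t₀
    rw [Category.id_comp]
    exact (pullback.lift_fst _ _ _).symm
  obtain ⟨L', hL', hL'i, hfib⟩ := isPicZeroCl_XTmap _ b hU
  rw [← PicLoc.pullCl_comp, ← XTmap_comp, ← hb] at hL'
  let e : pullback (PicF.XTproj A.hom A) τ ⟶ PicF.XT A.hom (AbDual.ovr A τ) :=
    pullback.lift (pullback.fst _ τ ≫ pullback.fst A.hom A.hom) (pullback.snd _ τ) (by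
      rw [Category.assoc, pullback.condition, pullback.condition_assoc]
      rfl)
  have he : e ≫ PicF.XTmap A.hom (AbDual.ovrHom A τ) = pullback.fst (PicF.XTproj A.hom A) τ := by
    apply pullback.hom_ext
    · rw [Category.assoc, XTmap_fst, pullback.lift_fst]
    · rw [Category.assoc, XTmap_snd, pullback.lift_snd_assoc]
      exact (pullback.condition (f := PicF.XTproj A.hom A) (g := τ)).symm
  let z : (AbDual.ovr A τ).left := IsLocalRing.closedPoint Ω
  have hr : Set.range ⇑(𝟙 _ : Spec (CommRingCat.of Ω) ⟶ Spec (CommRingCat.of Ω)) = ({z} : Set (AbDual.ovr A τ).left) :=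
    Set.ext fun y => ⟨fun _ => Subsingleton.elim (α := PrimeSpectrum Ω) y z, fun h => ⟨y, rfl⟩⟩
  let e2 : pullback (PicF.XTproj A.hom A) τ ⟶
      pullback (PicF.XTproj A.hom (AbDual.ovr A τ)) (𝟙 (Spec (CommRingCat.of Ω))) :=
    pullback.lift e (pullback.snd _ τ) (by rw [pullback.lift_snd]; exact (Category.comp_id _).symm)
  have key := @isAlgEquivZero_pullback Ω _ _ _ ⟨pullback.snd _ _⟩ ⟨pullback.snd _ _⟩ e2
    (pullback.lift_snd _ _ _) _ (hfib z Ω (𝟙 _) hr)
  have hcl : PicF.pullCl e2 (PicF.pullCl (pullback.fst _ _) (PicF.cl L')) =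
      PicF.pullCl (pullback.fst (PicF.XTproj A.hom A) τ) (PicF.cl N) := by
    rw [hL', ← PicLoc.pullCl_comp, ← PicLoc.pullCl_comp, pullback.lift_fst, he]
  obtain ⟨Q, p, q1, q2, q3, M, hM, a, a₀, ha, ha₀, ⟨θ⟩, h4⟩ := key
  exact ⟨Q, p, q1, q2, q3, M, hM, a, a₀, ha, ha₀, ⟨θ ≪≫ ((PicGrp.cl_eq_cl_iff _ _).1 hcl).some⟩, h4⟩

variable [IsLocallyNoetherian S] [ConnectedSpace S] [IsCommMonObj At]

set_option synthInstance.maxHeartbeats 400000

include hL in
/-- A homomorphism attached to a module vanishing on one fibre vanishes. -/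
theorem eq_one {φ : AgPol.DualMap A At} (hA : AbDual.IsDualAV Scheme.fppfPrecoverage A At φ) (lam : A ⟶ At)
    (hlam : AgPol.IsLambda A At φ L lam) (s : S) (h : (Over.pullback (S.fromSpecResidueField s)).map lam = 1) :
    lam = 1 := by
  obtain ⟨N, hN, hsh, hφN⟩ := hlam
  haveI := Groth.Agent.AV.geometricallyReduced_of_smooth A.hom
  haveI : GeometricallyIntegral A.hom := Groth.L08.Cube.geometricallyIntegral_of_group A
  haveI : LocallyOfFinitePresentation A.hom := LocallyOfFinitePresentation.iff_locallyOfFiniteType.2 inferInstance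
  haveI : Subsingleton ↥(Spec (S.residueField s)) := inferInstanceAs (Subsingleton (PrimeSpectrum _))
  have hP := isPicZeroCl L hL N hN hsh
  let q := S.fromSpecResidueField s
  let X := Red.bc q A
  let T : Over S := Over.mk (X.hom ≫ q)
  let j : T ⟶ A := down q (𝟙 X)
  have hj : j ≫ lam = 1 := by
    have h1 := down_one (A := At) q X
    refine Eq.trans ?_ h1
    refine Over.OverMorphism.ext ?_
    have h2 : pullback.lift (pullback.fst A.hom q ≫ lam.left) (pullback.snd A.hom q) _ ≫ pullback.fst At.hom q =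
        (1 : X ⟶ Red.bc q At).left ≫ pullback.fst At.hom q :=
      congrArg (fun f : X ⟶ Red.bc q At => f.left ≫ pullback.fst At.hom q) h
    rw [pullback.lift_fst] at h2
    refine Eq.trans ?_ h2
    show (𝟙 X.left ≫ pullback.fst A.hom q) ≫ lam.left = _
    rw [Category.id_comp]
  have hn : ∀ {Z : Over S} (p : Z ⟶ A) (g : Z ⟶ T), n N hN p (g ≫ j) = 1 := fun {Z} p g => by
    have hc : PicF.pullCl (PicF.XTmap A.hom j) (PicF.cl N) = oneCl _ := by
      refine eq_of_map_eq hA (isPicZeroCl_XTmap _ _ hP) (isPicZeroCl_oneCl _ _) ?_ (pullCl_oneCl _) ?_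
      · rw [XTmap_eq_n N hN, secT_eq_lift]
        refine (congrArg Subtype.val (n_comp N hN _ (fst A T) (snd A T ≫ j))).trans ?_
        rw [lift_fst, lift_snd_assoc, ← Hom.one_def, n_one_left L hL N hN hsh,
          l_one_eq L hL (W := T) X.hom q rfl, inv_one]
        rfl
      · rw [hA.relPic.natural A T j _ hP, hφN, hj, map_oneCl hA]
    have h1 : n N hN (fst A T) (snd A T ≫ j) = 1 := Subtype.ext ((XTmap_eq_n N hN j).symm.trans hc)
    have h2 := congrArg (pullPic (lift p g).left) h1
    rwa [map_one, n_comp, lift_fst, lift_snd_assoc] at h2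
  have hd := cube (A := A) (n N hN (fst A A) (snd A A) * l L hL (1 : A ⊗ A ⟶ A))
    (fun {W} p => by rw [map_mul, n_comp, l_comp, lift_fst, lift_snd, MonObj.comp_one, n_one_left L hL N hN hsh,
      inv_mul_cancel])
    (fun {W} p => by rw [map_mul, n_comp, l_comp, lift_fst, lift_snd, MonObj.comp_one, n_one_right L hL N hN hsh,
      inv_mul_cancel]) s (fun {Z} ψ g hg => by
      let Z' : Over S := Over.mk (g ≫ q)
      let ψ' : Z' ⟶ A ⊗ A := Over.homMk ψ hg
      have e : (pullback.lift ((ψ' ≫ snd A A).left) g (Over.w (ψ' ≫ snd A A))) ≫ X.hom = g := pullback.lift_snd _ _ _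
      let b : Z' ⟶ T := Over.homMk (pullback.lift ((ψ' ≫ snd A A).left) g (Over.w (ψ' ≫ snd A A))) (by
        show _ ≫ X.hom ≫ q = g ≫ q
        rw [reassoc_of% e])
      have hb : b ≫ j = ψ' ≫ snd A A := by
        refine Over.OverMorphism.ext ?_
        show _ ≫ 𝟙 X.left ≫ pullback.fst A.hom q = _
        rw [Category.id_comp]
        exact pullback.lift_fst _ _ _
      show pullPic ψ'.left _ = 1
      rw [map_mul, n_comp, l_comp, MonObj.comp_one, l_one_eq L hL (W := Z') g q rfl, ← hb, hn, _root_.mul_one])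
  refine hom_ext_of_trivial (d := (l L hL (1 : A ⟶ A)).1) (l L hL (1 : A ⟶ A)).2 fun T' j' hj' => ?_
  have h1 : l L hL (1 : T' ⟶ A) = 1 := by
    rw [← MonObj.comp_one (M := A) j', ← l_comp]
    exact Subtype.ext hj'
  have h2 : PicF.pullCl (PicF.XTmap A.hom j') (PicF.cl N) = oneCl _ := by
    rw [XTmap_eq_n N hN]
    have h3 := congrArg (pullPic (lift (fst A T') (snd A T' ≫ j')).left) hd
    rw [map_mul, map_one, n_comp, l_comp, lift_fst, lift_snd, MonObj.comp_one] at h3
    rw [show l L hL (1 : A ⊗ T' ⟶ A) = 1 by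
      rw [← MonObj.comp_one (M := A) (snd A T'), ← l_comp, h1, map_one], _root_.mul_one] at h3
    rw [h3]
    rfl
  rw [← hφN, ← hA.relPic.natural A T' j' _ hP, h2, map_oneCl hA, MonObj.comp_one]

end Groth.Agent.LambdaRigid
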